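import Mathlib.AlgebraicGeometry.Limits
import Mathlib.AlgebraicGeometry.Morphisms.Affine
import Mathlib.Algebra.Category.Ring.FilteredColimits
import Mathlib.RingTheory.Adjoin.FG
import Mathlib.CategoryTheory.Limits.Types.Filtered
import Groth.Agent.LimTop61.FpCrit

/-! `Spec` of a ring is the limit of the spectra of its finitely generated subrings. -/

set_option autoImplicit false
universe u

open CategoryTheory CategoryTheory.Limits AlgebraicGeometry Opposite

namespace Groth.Agent.Stage62

variable (A : Type u) [CommRing A]

/-- The finitely generated subrings. -/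
abbrev FgSubring : Type u := {S : Subalgebra ℤ A // S.FG}

instance : IsDirected (FgSubring A) (· ≤ ·) :=
  ⟨fun S T => ⟨⟨S.1 ⊔ T.1, S.2.sup T.2⟩, le_sup_left (a := S.1), le_sup_right (a := S.1)⟩⟩

instance : Nonempty (FgSubring A) := ⟨⟨⊥, Subalgebra.fg_bot⟩⟩

/-- The system of finitely generated subrings. -/
def subringDiagram : FgSubring A ⥤ CommRingCat.{u} where
  obj S := CommRingCat.of ↥S.1
  map {S T} h := CommRingCat.ofHom (Subalgebra.inclusion (leOfHom h)).toRingHom

/-- The ring as a cocone. -/
def subringCocone : Cocone (subringDiagram A) where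
  pt := CommRingCat.of A
  ι := { app := fun S => CommRingCat.ofHom S.1.val.toRingHom }

/-- A ring is the colimit of its finitely generated subrings. -/
noncomputable def isColimitSubringCocone : IsColimit (subringCocone A) := by
  haveI : IsFiltered (FgSubring A) := inferInstance
  haveI : ReflectsColimit (subringDiagram A) (CategoryTheory.forget CommRingCat) :=
    reflectsColimit_of_reflectsIsomorphisms (subringDiagram A) (CategoryTheory.forget CommRingCat)
  refine isColimitOfReflects (CategoryTheory.forget CommRingCat) ?_
  refine Types.FilteredColimit.isColimitOf _ _ (fun x => ?_) (fun i j xi xj hij => ?_)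
  · exact ⟨⟨Algebra.adjoin ℤ {(show A from x)}, ⟨{(show A from x)}, by simp⟩⟩,
      ⟨x, Algebra.subset_adjoin rfl⟩, rfl⟩
  · obtain ⟨k, a, b, -⟩ := IsFilteredOrEmpty.cocone_objs i j
    exact ⟨k, a, b, Subtype.ext hij⟩

/-- The spectra of the finitely generated subrings. -/
noncomputable def subringSpec : (FgSubring A)ᵒᵖ ⥤ Scheme.{u} := (subringDiagram A).op ⋙ Scheme.Spec

instance (j : (FgSubring A)ᵒᵖ) : IsAffine ((subringSpec A).obj j) := inferInstanceAs (IsAffine (Spec _))

instance (i j : (FgSubring A)ᵒᵖ) (f : i ⟶ j) : IsAffineHom ((subringSpec A).map f) :=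
  isAffineHom_of_isAffine _

/-- `Spec` of the ring as a cone. -/
noncomputable def subringCone : Cone (subringSpec A) := Scheme.Spec.mapCone (subringCocone A).op

/-- `Spec` of a ring is the limit of the spectra of its finitely generated subrings. -/
noncomputable def isLimitSubringCone : IsLimit (subringCone A) :=
  have : IsConnected (FgSubring A) := IsFiltered.isConnected _
  isLimitOfPreserves Scheme.Spec (isColimitSubringCocone A).op

end Groth.Agent.Stage62
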