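import Groth.Agent.Stage62.FlatStageScheme
import Groth.Agent.Stage62.SubringSpec
import Groth.Agent.Open62.FlatLocus
import Groth.Agent.QC70.Stalk
import Groth.Agent.Approx60.ImmStage
import Groth.Agent.LimTop61.FPDescend
import Groth.Agent.LimTop61.ModExact

/-! Descent of flat modules of finite presentation to a finitely generated subring (EGA IV 11.2.7). -/

set_option autoImplicit false
set_option backward.isDefEq.respectTransparency.types false
universe u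

open CategoryTheory Limits AlgebraicGeometry TopologicalSpace Opposite TensorProduct

namespace Groth.Agent.Stage62

theorem isFlatOverAt_of_iso {X S : Scheme.{u}} (f : X ⟶ S) {M N : X.Modules} (e : M ≅ N) (x : X)
    (h : FlatMod.IsFlatOverAt f M x) : FlatMod.IsFlatOverAt f N x := by
  letI := FlatMod.moduleStalkOver f M x
  letI := FlatMod.moduleStalkOver f N x
  haveI : Module.Flat (S.presheaf.stalk (f x)) (M.presheaf.stalk x) := h
  have hb : Function.Bijective (QC70.stalkLinear e.inv x) := by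
    haveI : IsIso ((TopCat.Presheaf.stalkFunctor _ x).map e.inv.mapPresheaf) := by
      haveI : IsIso e.inv.mapPresheaf := inferInstanceAs (IsIso ((Scheme.Modules.toPresheaf X).map e.inv))
      infer_instance
    exact ConcreteCategory.bijective_of_isIso ((TopCat.Presheaf.stalkFunctor _ x).map e.inv.mapPresheaf)
  let E := LinearEquiv.ofBijective (QC70.stalkLinear e.inv x) hb
  let E' : N.presheaf.stalk x ≃ₗ[S.presheaf.stalk (f x)] M.presheaf.stalk x :=
    { E.toAddEquiv with map_smul' := fun r y => E.map_smul ((f.stalkMap x).hom r) y }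
  exact Module.Flat.of_linearEquiv E'

section
variable {I : Type u} [SmallCategory I] [IsCofiltered I] (D : I ⥤ Scheme.{u}) (c : Cone D) (hc : IsLimit c)
  [∀ (i j : I) (φ : i ⟶ j), IsAffineHom (D.map φ)] (i₀ : I)
  {X₀ : Scheme.{u}} (f₀ : X₀ ⟶ D.obj i₀) (F₀ : X₀.Modules)
  {X : Scheme.{u}} (f : X ⟶ c.pt) (qX : X ⟶ X₀)

include hc in
/-- Flatness over an affine chart descends to a stage. -/
theorem exists_stage_flatOn [IsAffine (D.obj i₀)] [LocallyOfFinitePresentation f₀] [F₀.IsQuasicoherent]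
    [CohB1.IsFP F₀] (hX : IsPullback qX f f₀ (c.π.app i₀)) {U : X₀.Opens} (hU : IsAffineOpen U)
    (h : ∀ x' ∈ qX ⁻¹ᵁ U, FlatMod.IsFlatOverAt f ((Scheme.Modules.pullback qX).obj F₀) x') :
    ∃ (i : I) (φ : i ⟶ i₀), ∀ (k : I) (ψ : k ⟶ i), ∀ x' ∈ pullback.fst f₀ (D.map (ψ ≫ φ)) ⁻¹ᵁ U,
      FlatMod.IsFlatOverAt (pullback.snd f₀ (D.map (ψ ≫ φ)))
        ((Scheme.Modules.pullback (pullback.fst f₀ (D.map (ψ ≫ φ)))).obj F₀) x' := by
  haveI : IsAffineHom (c.π.app i₀) := isAffineHom_π_app D c hc i₀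
  have hV := isAffineOpen_top (D.obj i₀)
  let V : (D.obj i₀).Opens := ⊤
  have hle : U ≤ f₀ ⁻¹ᵁ V := fun x _ => trivial
  letI : Algebra Γ(D.obj i₀, V) Γ(X₀, U) := (f₀.appLE V U hle).hom.toAlgebra
  letI : Module Γ(D.obj i₀, V) Γ(F₀, U) := Module.compHom _ (f₀.appLE V U hle).hom
  haveI : IsScalarTower Γ(D.obj i₀, V) Γ(X₀, U) Γ(F₀, U) := IsScalarTower.of_algebraMap_smul fun _ _ => rfl
  haveI : Algebra.FinitePresentation Γ(D.obj i₀, V) Γ(X₀, U) := f₀.finitePresentation_appLE hV hU hle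
  haveI := Props58.LocFree.finitePresentation_sections F₀ hU
  obtain ⟨i, φ, hφ⟩ := exists_stage_chart D c hc i₀ (𝟙 (D.obj i₀)) (c.π.app i₀) (𝟙 c.pt)
    (haveI : IsIso (𝟙 c.pt) := IsIso.id _; haveI : IsIso (𝟙 (D.obj i₀)) := IsIso.id _; IsPullback.of_vert_isIso ⟨by simp⟩) hV Γ(X₀, U) Γ(F₀, U) ((flatOn_chart_iff hX F₀ hV hU hle).mp h)
  refine ⟨i, φ, fun k ψ => ?_⟩
  haveI : IsAffineHom (D.map (ψ ≫ φ)) := inferInstance
  refine (flatOn_chart_iff (IsPullback.of_hasPullback f₀ (D.map (ψ ≫ φ))) F₀ hV hU hle).mpr ?_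
  refine flat_chart_map (pullback.fst (𝟙 (D.obj i₀)) (D.map φ)) (D.map (ψ ≫ φ))
    (pullback.lift (D.map (ψ ≫ φ)) (D.map ψ) (by rw [Category.comp_id, D.map_comp])) (pullback.lift_fst _ _ _)
    Γ(F₀, U) hφ

/-- Base change of a model to a later stage. -/
theorem exists_baseChange_model (hX : IsPullback qX f f₀ (c.π.app i₀)) {i : I} (φ : i ⟶ i₀)
    {G : X.Modules} (e : (Scheme.Modules.pullback qX).obj F₀ ≅ G) :
    ∃ q : X ⟶ pullback f₀ (D.map φ),
      q ≫ pullback.fst f₀ (D.map φ) = qX ∧ IsPullback q f (pullback.snd f₀ (D.map φ)) (c.π.app i) ∧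
      Nonempty ((Scheme.Modules.pullback q).obj
        ((Scheme.Modules.pullback (pullback.fst f₀ (D.map φ))).obj F₀) ≅ G) := by
  have hw : qX ≫ f₀ = (f ≫ c.π.app i) ≫ D.map φ := by rw [hX.w, Category.assoc, c.w φ]
  refine ⟨pullback.lift qX (f ≫ c.π.app i) hw, pullback.lift_fst _ _ _, ?_,
    ⟨(LimTop61.pullbackCompIso (pullback.fst f₀ (D.map φ)) (pullback.lift qX (f ≫ c.π.app i) hw)
      (pullback.lift_fst _ _ _)).app F₀ ≪≫ e⟩⟩
  refine IsPullback.of_right ?_ (pullback.lift_snd _ _ _) (IsPullback.of_hasPullback f₀ (D.map φ))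
  rw [pullback.lift_fst, c.w φ]
  exact hX

end

theorem locallyOfFiniteType_snd {X₀ S₀ S₁ : Scheme.{u}} (f₀ : X₀ ⟶ S₀) (g : S₁ ⟶ S₀)
    [LocallyOfFinitePresentation f₀] [QuasiCompact f₀] :
    LocallyOfFiniteType (pullback.snd f₀ g) ∧ QuasiCompact (pullback.snd f₀ g) :=
  ⟨inferInstance, inferInstance⟩

theorem locallyOfFiniteType_snd_snd {X₀ S₀ S₁ S₂ : Scheme.{u}} (f₀ : X₀ ⟶ S₀) (g : S₁ ⟶ S₀) (g' : S₂ ⟶ S₁)
    [LocallyOfFinitePresentation f₀] [QuasiCompact f₀] :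
    LocallyOfFiniteType (pullback.snd (pullback.snd f₀ g) g') ∧ QuasiCompact (pullback.snd (pullback.snd f₀ g) g') :=
  ⟨inferInstance, inferInstance⟩

theorem isFiniteType_of_isFP {X : Scheme.{u}} {F : X.Modules} (h : CohB1.IsFP F) : F.IsFiniteType :=
  haveI := h
  SheafOfModules.instIsFiniteTypeOfIsFinitePresentation F

/-- A model of a flat module over a finitely generated subring. -/
def HasModelAt {A : Type u} [CommRing A] {X : Scheme.{u}} (f : X ⟶ Spec (CommRingCat.of A)) (F : X.Modules)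
    (P : ∀ {X₀ S₀ : Scheme.{u}}, (X₀ ⟶ S₀) → X₀.Modules → (X ⟶ X₀) → Prop) : Prop :=
  ∃ (A₀ : Subalgebra ℤ A) (_ : A₀.FG) (X₀ : Scheme.{u}) (f₀ : X₀ ⟶ Spec (CommRingCat.of ↥A₀))
    (_ : LocallyOfFiniteType f₀) (_ : QuasiCompact f₀) (F₀ : X₀.Modules) (_ : Coh.IsCoh F₀) (q : X ⟶ X₀)
    (_ : IsPullback q f f₀ (Spec.map (CommRingCat.ofHom A₀.val.toRingHom)))
    (_ : (Scheme.Modules.pullback q).obj F₀ ≅ F), P f₀ F₀ q

variable {A : Type u} [CommRing A] {X : Scheme.{u}} (f : X ⟶ Spec (CommRingCat.of A))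
  [LocallyOfFinitePresentation f] [QuasiCompact f] [QuasiSeparated f]
  (F : X.Modules) [F.IsQuasicoherent] [CohB1.IsFP F]

theorem exists_model : ∃ (i : (FgSubring A)ᵒᵖ) (X₀ : Scheme.{u}) (f₀ : X₀ ⟶ (subringSpec A).obj i)
    (F₀ : X₀.Modules) (q : X ⟶ X₀), LocallyOfFinitePresentation f₀ ∧ QuasiCompact f₀ ∧ QuasiSeparated f₀ ∧
      IsPullback q f f₀ ((subringCone A).π.app i) ∧ F₀.IsQuasicoherent ∧ CohB1.IsFP F₀ ∧
      Nonempty ((Scheme.Modules.pullback q).obj F₀ ≅ F) := by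
  haveI : @LocallyOfFinitePresentation X (subringCone A).pt f := ‹LocallyOfFinitePresentation f›
  haveI : @QuasiCompact X (subringCone A).pt f := ‹QuasiCompact f›
  haveI : @QuasiSeparated X (subringCone A).pt f := ‹QuasiSeparated f›
  obtain ⟨i, Xi, fi, g, hlfp, hqc, hqs, hg⟩ :=
    Approx60.S0591 (subringSpec A) (subringCone A) (isLimitSubringCone A) X f
  have : CompactSpace Xi := QuasiCompact.compactSpace_of_compactSpace fi
  have : QuasiSeparatedSpace Xi := quasiSeparatedSpace_of_quasiSeparated fi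
  let c' := LimTop61.bcCone (subringSpec A) (subringCone A) fi g f hg.w
  haveI : (show c'.pt.Modules from F).IsQuasicoherent := ‹F.IsQuasicoherent›
  haveI : CohB1.IsFP (show c'.pt.Modules from F) := ‹CohB1.IsFP F›
  obtain ⟨j, -, Fj, hq, hfp, ⟨e⟩⟩ := LimTop61.exists_fp_descend (D := LimTop61.bcDiagram (subringSpec A) fi) (c := c')
    (i₀ := Over.mk (𝟙 i)) (LimTop61.isLimitBcCone (subringSpec A) _ (isLimitSubringCone A) fi g f hg)
    (show c'.pt.Modules from F)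
  refine ⟨j.left, pullback fi ((subringSpec A).map j.hom), pullback.snd _ _, Fj, c'.π.app j,
    inferInstance, inferInstance, inferInstance, ?_, hq, hfp, ⟨e⟩⟩
  refine IsPullback.of_right ?_ (pullback.lift_snd _ _ _) (IsPullback.of_hasPullback fi ((subringSpec A).map j.hom))
  show IsPullback (pullback.lift g _ _ ≫ _) f fi _
  rw [pullback.lift_fst]
  exact (congrArg (IsPullback g f fi) ((subringCone A).w j.hom)).mpr hg

theorem hasModelAt_of_flatAt (x : X) (hx : FlatMod.IsFlatOverAt f F x) :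
    HasModelAt f F fun f₀ F₀ q => FlatMod.IsFlatOverAt f₀ F₀ (q x) := by
  obtain ⟨i, X₀, f₀, F₀, q, h1, h2, h3, hX, h4, h5, ⟨e⟩⟩ := exists_model f F
  let D := subringSpec A
  let c := subringCone A
  have hc : IsLimit c := isLimitSubringCone A
  obtain ⟨_, ⟨W, hW, rfl⟩, hxW, hWsub⟩ := X.isBasis_affineOpens.exists_subset_of_mem_open hx
    (Open62.isOpen_flatLocus f F ‹F.IsQuasicoherent› ‹CohB1.IsFP F›)
  have : CompactSpace X₀ := QuasiCompact.compactSpace_of_compactSpace f₀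
  have : QuasiSeparatedSpace X₀ := quasiSeparatedSpace_of_quasiSeparated f₀
  obtain ⟨j, V, -, hV⟩ := exists_preimage_eq (LimTop61.bcDiagram D f₀) (LimTop61.bcCone D c f₀ q f hX.w)
    (LimTop61.isLimitBcCone D c hc f₀ q f hX) W hW.isCompact
  obtain ⟨q₁, hq₁, hX₁, ⟨e₁⟩⟩ := exists_baseChange_model D c i f₀ F₀ f q hX j.hom e
  let F₁ := (Scheme.Modules.pullback (pullback.fst f₀ (D.map j.hom))).obj F₀
  haveI : F₁.IsQuasicoherent := QCPull72.isQuasicoherent_pullback _ F₀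
  haveI : CohB1.IsFP F₁ := (haveI := h5; LimTop61.isFP_pullback _ F₀)
  have hq₁' : q₁ = (LimTop61.bcCone D c f₀ q f hX.w).π.app j := by
    apply pullback.hom_ext
    · exact hq₁.trans (pullback.lift_fst _ _ _).symm
    · exact hX₁.w.trans (pullback.lift_snd _ _ _).symm
  have hV' : q₁ ⁻¹ᵁ V = W := by rw [hq₁']; exact hV
  obtain ⟨U, hU, hxU, hUV⟩ := exists_isAffineOpen_mem_and_subset (X := pullback f₀ (D.map j.hom)) (x := q₁ x) (U := V)
    (hV'.ge hxW)
  have : IsAffine (D.obj j.left) := inferInstanceAs (IsAffine ((subringSpec A).obj j.left))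
  obtain ⟨k, φ, hk⟩ := exists_stage_flatOn D c hc j.left (pullback.snd f₀ (D.map j.hom)) F₁ f q₁ hX₁ hU
    fun x' hx' => isFlatOverAt_of_iso f e₁.symm x' (hWsub (hV'.le (hUV hx')))
  obtain ⟨q₂, hq₂, hX₂, ⟨e₂⟩⟩ := exists_baseChange_model D c j.left _ F₁ f q₁ hX₁ (𝟙 k ≫ φ) e₁
  haveI := h1
  haveI := h2
  have hlft := locallyOfFiniteType_snd_snd f₀ (D.map j.hom) (D.map (𝟙 k ≫ φ))
  refine ⟨k.unop.1, k.unop.2, _, pullback.snd (pullback.snd f₀ (D.map j.hom)) (D.map (𝟙 k ≫ φ)), hlft.1,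
    hlft.2, _, ⟨QCPull72.isQuasicoherent_pullback _ F₁, ?_⟩, q₂, hX₂, e₂, hk k (𝟙 k) _ ?_⟩
  · have := LimTop61.isFP_pullback (pullback.fst (pullback.snd f₀ (D.map j.hom)) (D.map (𝟙 k ≫ φ))) F₁
    exact isFiniteType_of_isFP this
  · show pullback.fst (pullback.snd f₀ (D.map j.hom)) (D.map (𝟙 k ≫ φ)) (q₂ x) ∈ U
    rw [← Scheme.Hom.comp_apply, hq₂]
    exact hxU

theorem hasModelAt_of_flat (hx : FlatMod.IsFlatOver f F) :
    HasModelAt f F fun f₀ F₀ _ => FlatMod.IsFlatOver f₀ F₀ := by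
  classical
  obtain ⟨i, X₀, f₀, F₀, q, h1, h2, h3, hX, h4, h5, ⟨e⟩⟩ := exists_model f F
  let D := subringSpec A
  let c := subringCone A
  have hc : IsLimit c := isLimitSubringCone A
  have : CompactSpace X₀ := QuasiCompact.compactSpace_of_compactSpace f₀
  choose U hU hxU _ using fun z : X₀ => exists_isAffineOpen_mem_and_subset (X := X₀) (x := z) (U := ⊤) trivial
  obtain ⟨s, hs⟩ := isCompact_univ.elim_finite_subcover (fun z => (U z : Set X₀)) (fun z => (U z).2)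
    (fun z _ => Set.mem_iUnion.mpr ⟨z, hxU z⟩)
  have : IsAffine (D.obj i) := inferInstanceAs (IsAffine ((subringSpec A).obj i))
  choose l φ hk using fun z : s => exists_stage_flatOn D c hc i f₀ F₀ f q hX (hU z)
    fun x' _ => isFlatOverAt_of_iso f e.symm x' (hx x')
  obtain ⟨m, ψ, χ, hχ⟩ := LimDesc62.DescProp.exists_common φ
  obtain ⟨q₂, hq₂, hX₂, ⟨e₂⟩⟩ := exists_baseChange_model D c i f₀ F₀ f q hX ψ e
  haveI := h1
  haveI := h2
  have hlft := locallyOfFiniteType_snd f₀ (D.map ψ)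
  refine ⟨m.unop.1, m.unop.2, _, pullback.snd f₀ (D.map ψ), hlft.1, hlft.2, _,
    ⟨QCPull72.isQuasicoherent_pullback _ F₀, ?_⟩, q₂, hX₂, e₂, fun z => ?_⟩
  · haveI := h5
    have := LimTop61.isFP_pullback (pullback.fst f₀ (D.map ψ)) F₀
    exact isFiniteType_of_isFP this
  · obtain ⟨w, hw, hzw⟩ := Set.mem_iUnion₂.mp (hs (Set.mem_univ (pullback.fst f₀ (D.map ψ) z)))
    have := hk ⟨w, hw⟩ m (χ ⟨w, hw⟩)
    rw [hχ] at this
    exact this z hzw

end Groth.Agent.Stage62
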