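import Groth.Agent.Cons62.Model
import Mathlib.RingTheory.TensorProduct.Pi
import Mathlib.Algebra.Module.FinitePresentation
import Mathlib.LinearAlgebra.TensorProduct.RightExactness

/-! Finitely presented modules over finitely presented algebras come from a Noetherian subring. -/

set_option autoImplicit false
universe u

open TensorProduct

namespace Groth.Agent.Stage62

section

variable {A₀ A B₀ B : Type u} [CommRing A₀] [CommRing A] [CommRing B₀] [CommRing B] [Algebra A₀ A]
  [Algebra A₀ B₀] [Algebra A B] (e : A ⊗[A₀] B₀ ≃ₐ[A] B) {m : ℕ} {κ : Type u} (l : κ → Fin m → B₀)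

/-- The map on coordinates. -/
noncomputable def coord (x : Fin m → B₀) : Fin m → B := fun i => e (1 ⊗ₜ x i)

/-- Coordinates of the base change. -/
noncomputable def coordEquiv : A ⊗[A₀] (Fin m → B₀) ≃ₗ[A] (Fin m → B) :=
  TensorProduct.piRight A₀ A A (fun _ : Fin m => B₀) ≪≫ₗ LinearEquiv.piCongrRight fun _ => e.toLinearEquiv

theorem coordEquiv_tmul (a : A) (v : Fin m → B₀) : coordEquiv e (a ⊗ₜ v) = a • coord e v := by
  funext i
  have h : e (a ⊗ₜ[A₀] v i) = a • e (1 ⊗ₜ[A₀] v i) := by
    rw [← map_smul, TensorProduct.smul_tmul', smul_eq_mul, mul_one]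
  simpa [coordEquiv, coord] using h

theorem coord_mem_span {x : Fin m → B₀} (hx : x ∈ Submodule.span B₀ (Set.range l)) :
    coord e x ∈ Submodule.span B (Set.range fun k => coord e (l k)) := by
  induction hx using Submodule.span_induction with
  | mem z hz => obtain ⟨k, rfl⟩ := hz; exact Submodule.subset_span ⟨k, rfl⟩
  | zero =>
    have : coord e (0 : Fin m → B₀) = 0 := funext fun i => by simp [coord]
    rw [this]; exact zero_mem _
  | add x y _ _ hx hy =>
    have : coord e (x + y) = coord e x + coord e y := funext fun i => by simp [coord, tmul_add]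
    rw [this]; exact add_mem hx hy
  | smul b x _ hx =>
    have : coord e (b • x) = e (1 ⊗ₜ b) • coord e x := funext fun i => by
      show e (1 ⊗ₜ[A₀] (b * x i)) = e (1 ⊗ₜ b) * e (1 ⊗ₜ x i)
      rw [← map_mul, Algebra.TensorProduct.tmul_mul_tmul, mul_one]
    rw [this]; exact Submodule.smul_mem _ _ hx

theorem map_range_baseChange :
    (LinearMap.range (((Submodule.span B₀ (Set.range l)).restrictScalars A₀).subtype.baseChange A)).map
      (coordEquiv e).toLinearMap =
      (Submodule.span B (Set.range fun k => coord e (l k))).restrictScalars A := by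
  set K := Submodule.span B₀ (Set.range l)
  apply le_antisymm
  · rintro _ ⟨_, ⟨z, rfl⟩, rfl⟩
    induction z using TensorProduct.induction_on with
    | zero => simp
    | add x y hx hy => rw [map_add, map_add]; exact add_mem hx hy
    | tmul a k =>
      rw [LinearEquiv.coe_coe, LinearMap.baseChange_tmul, coordEquiv_tmul]
      exact Submodule.smul_mem _ a (coord_mem_span e l k.2)
  · intro x hx
    rw [Submodule.restrictScalars_mem] at hx
    suffices ∀ b : B, b • x ∈ (LinearMap.range ((K.restrictScalars A₀).subtype.baseChange A)).map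
        (coordEquiv e).toLinearMap by simpa using this 1
    induction hx using Submodule.span_induction with
    | mem v hv =>
      obtain ⟨k, rfl⟩ := hv
      intro b
      obtain ⟨b, rfl⟩ := e.surjective b
      induction b using TensorProduct.induction_on with
      | zero => rw [map_zero, zero_smul]; exact zero_mem _
      | add x y hx hy => rw [map_add, add_smul]; exact add_mem hx hy
      | tmul a c =>
        refine ⟨_, ⟨a ⊗ₜ ⟨c • l k, K.smul_mem c (Submodule.subset_span ⟨_, rfl⟩)⟩, rfl⟩, ?_⟩
        rw [LinearEquiv.coe_coe, LinearMap.baseChange_tmul, coordEquiv_tmul]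
        funext i
        show a • e (1 ⊗ₜ[A₀] (c * l k i)) = e (a ⊗ₜ[A₀] c) * e (1 ⊗ₜ[A₀] l k i)
        rw [← map_mul, Algebra.TensorProduct.tmul_mul_tmul, mul_one, ← map_smul, TensorProduct.smul_tmul',
          smul_eq_mul, mul_one]
    | zero => intro b; rw [smul_zero]; exact zero_mem _
    | add x y _ _ hx hy => intro b; rw [smul_add]; exact add_mem (hx b) (hy b)
    | smul c x _ hx => intro b; rw [smul_smul]; exact hx (b * c)

/-- Base change of a quotient of a finite free module. -/
noncomputable def quotEquiv : A ⊗[A₀] ((Fin m → B₀) ⧸ Submodule.span B₀ (Set.range l)) ≃ₗ[A]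
    ((Fin m → B) ⧸ Submodule.span B (Set.range fun k => coord e (l k))) :=
  ((Submodule.Quotient.restrictScalarsEquiv A₀ _).symm.baseChange A₀ A _ _) ≪≫ₗ
    (Function.Exact.linearEquivOfSurjective
      (f := ((Submodule.span B₀ (Set.range l)).restrictScalars A₀).subtype.baseChange A)
      (g := ((Submodule.span B₀ (Set.range l)).restrictScalars A₀).mkQ.baseChange A)
      (lTensor_exact A (LinearMap.exact_subtype_mkQ _) (Submodule.mkQ_surjective _))
      (LinearMap.lTensor_surjective A (Submodule.mkQ_surjective _))).symm ≪≫ₗ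
    Submodule.Quotient.equiv _ _ (coordEquiv e) (map_range_baseChange e l) ≪≫ₗ
    Submodule.Quotient.restrictScalarsEquiv A _

end

theorem exists_module_model {A B M : Type u} [CommRing A] [CommRing B] [Algebra A B]
    [Algebra.FinitePresentation A B] [AddCommGroup M] [Module B M] [Module A M] [IsScalarTower A B M]
    [Module.FinitePresentation B M] :
    ∃ (A₀ : Subalgebra ℤ A) (B₀ : Type u) (_ : CommRing B₀) (_ : Algebra A₀ B₀)
      (M₀ : Type u) (_ : AddCommGroup M₀) (_ : Module B₀ M₀) (_ : Module A₀ M₀)
      (_ : IsScalarTower A₀ B₀ M₀) (_ : (A ⊗[A₀] M₀) ≃ₗ[A] M),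
      IsNoetherianRing A₀ ∧ Algebra.FinitePresentation A₀ B₀ ∧ Module.Finite B₀ M₀ := by
  classical
  obtain ⟨m, π, hπ⟩ := Module.Finite.exists_fin' B M
  obtain ⟨w, hw⟩ := (Module.FinitePresentation.fg_ker π hπ : (LinearMap.ker π).FG)
  obtain ⟨A₀, B₀, _, _, e, hN, hB₀, hsub⟩ :=
    Cons62.exists_model (A := A) (B := B) (t := ⋃ v ∈ (w : Set (Fin m → B)), Set.range v)
      (w.finite_toSet.biUnion fun v _ => Set.finite_range v)
  choose l hl using fun (v : ↥(w : Set (Fin m → B))) (i : Fin m) => hsub (Set.mem_biUnion v.2 ⟨i, rfl⟩)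
  have hspan : Submodule.span B (Set.range fun v => coord e (l v)) = LinearMap.ker π := by
    rw [← hw]
    congr 1
    have : (fun v => coord e (l v)) = fun v => v.1 := funext fun v => funext (hl v)
    rw [this, Subtype.range_coe]
  exact ⟨A₀, B₀, inferInstance, inferInstance, _, inferInstance, inferInstance, inferInstance, inferInstance,
    quotEquiv e l ≪≫ₗ (Submodule.quotEquivOfEq _ _ hspan).restrictScalars A ≪≫ₗ
      (π.quotKerEquivOfSurjective hπ).restrictScalars A, hN, hB₀, inferInstance⟩

end Groth.Agent.Stage62
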