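import Groth.Agent.FlatMor68.FlatSections
import Groth.Agent.LimTop61.PullBC
import Mathlib.AlgebraicGeometry.Morphisms.Affine

/-! Flatness of a pulled back module over an affine chart of a base change. -/

set_option autoImplicit false
set_option backward.isDefEq.respectTransparency.types false
universe u

open CategoryTheory Limits AlgebraicGeometry TopologicalSpace Opposite TensorProduct
open Groth.Agent.QC70 Groth.Agent.QCPull72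

namespace Groth.Agent.Stage62

/-- The square of sections over affine opens of a base change along an affine morphism. -/
theorem isPushout_sections {X Y X' Y' : Scheme.{u}} {f : X ⟶ Y} {g : Y' ⟶ Y} {f' : X' ⟶ Y'} {g' : X' ⟶ X}
    [IsAffineHom g] (H : IsPullback g' f' f g) {V : Y.Opens} {U : X.Opens} (hV : IsAffineOpen V)
    (hU : IsAffineOpen U) (hle : U ≤ f ⁻¹ᵁ V) (e : g' ⁻¹ᵁ U ≤ f' ⁻¹ᵁ g ⁻¹ᵁ V) :
    IsPushout (g.app V) (f.appLE V U hle) (f'.appLE (g ⁻¹ᵁ V) (g' ⁻¹ᵁ U) e) (g'.app U) := by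
  have h := (isIso_pushoutSection_iff H.flip (US := V) (UT := U) (UX := g ⁻¹ᵁ V)
    (UY := g' ⁻¹ᵁ U) hle le_rfl (inf_eq_right.mpr e).symm).mp
    (isIso_pushoutSection_of_isAffineOpen H.flip hle le_rfl (inf_eq_right.mpr e).symm hV hU
      (hV.preimage g))
  rw [← Scheme.Hom.app_eq_appLE, ← Scheme.Hom.app_eq_appLE] at h
  exact h

/-- Flatness of the pulled back module on a chart is flatness of the tensor product. -/
theorem flatOn_chart_iff {X Y X' Y' : Scheme.{u}} {f : X ⟶ Y} {g : Y' ⟶ Y} {f' : X' ⟶ Y'} {g' : X' ⟶ X}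
    [IsAffineHom g] (H : IsPullback g' f' f g) (F : X.Modules) [F.IsQuasicoherent] {V : Y.Opens} {U : X.Opens}
    (hV : IsAffineOpen V) (hU : IsAffineOpen U) (hle : U ≤ f ⁻¹ᵁ V) :
    letI : Algebra Γ(Y, V) Γ(Y', g ⁻¹ᵁ V) := (g.app V).hom.toAlgebra
    letI : Module Γ(Y, V) Γ(F, U) := Module.compHom _ (f.appLE V U hle).hom
    (∀ x' ∈ g' ⁻¹ᵁ U, FlatMod.IsFlatOverAt f' ((Scheme.Modules.pullback g').obj F) x') ↔
      Module.Flat Γ(Y', g ⁻¹ᵁ V) (Γ(Y', g ⁻¹ᵁ V) ⊗[Γ(Y, V)] Γ(F, U)) := by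
  letI : Algebra Γ(Y, V) Γ(Y', g ⁻¹ᵁ V) := (g.app V).hom.toAlgebra
  letI : Module Γ(Y, V) Γ(F, U) := Module.compHom _ (f.appLE V U hle).hom
  haveI : IsAffineHom g' := MorphismProperty.of_isPullback H.flip ‹IsAffineHom g›
  let F' := (Scheme.Modules.pullback g').obj F
  haveI : F'.IsQuasicoherent := QCPull72.isQuasicoherent_pullback g' F
  have e : g' ⁻¹ᵁ U ≤ f' ⁻¹ᵁ g ⁻¹ᵁ V := by
    intro x hx
    show g (f' x) ∈ V
    rw [← Scheme.Hom.comp_apply, ← H.w, Scheme.Hom.comp_apply]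
    exact hle hx
  have hU' : IsAffineOpen (g' ⁻¹ᵁ U) := hU.preimage g'
  have hV' : IsAffineOpen (g ⁻¹ᵁ V) := hV.preimage g
  have hpo := isPushout_sections H hV hU hle e
  have hh := LimTop61.exists_baseChange_equiv g' F hU hU' (le_refl (g' ⁻¹ᵁ U))
  rw [← Scheme.Hom.app_eq_appLE] at hh
  letI : Algebra Γ(X, U) Γ(X', g' ⁻¹ᵁ U) := (g'.app U).hom.toAlgebra
  letI : Algebra Γ(Y, V) Γ(X, U) := (f.appLE V U hle).hom.toAlgebra
  letI : Algebra Γ(Y', g ⁻¹ᵁ V) Γ(X', g' ⁻¹ᵁ U) := (f'.appLE (g ⁻¹ᵁ V) (g' ⁻¹ᵁ U) e).hom.toAlgebra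
  letI : Algebra Γ(Y, V) Γ(X', g' ⁻¹ᵁ U) := (f.appLE V U hle ≫ g'.app U).hom.toAlgebra
  haveI : IsScalarTower Γ(Y, V) Γ(X, U) Γ(X', g' ⁻¹ᵁ U) := .of_algebraMap_eq' rfl
  haveI : IsScalarTower Γ(Y, V) Γ(Y', g ⁻¹ᵁ V) Γ(X', g' ⁻¹ᵁ U) :=
    .of_algebraMap_eq' (congrArg CommRingCat.Hom.hom hpo.w).symm
  haveI : Algebra.IsPushout Γ(Y, V) Γ(Y', g ⁻¹ᵁ V) Γ(X, U) Γ(X', g' ⁻¹ᵁ U) :=
    (CommRingCat.isPushout_iff_isPushout).1 hpo
  haveI : IsScalarTower Γ(Y, V) Γ(X, U) Γ(F, U) := IsScalarTower.of_algebraMap_smul fun _ _ => rfl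
  letI : Module Γ(Y', g ⁻¹ᵁ V) Γ(F', g' ⁻¹ᵁ U) := Module.compHom _ (f'.appLE (g ⁻¹ᵁ V) (g' ⁻¹ᵁ U) e).hom
  haveI : IsScalarTower Γ(Y', g ⁻¹ᵁ V) Γ(X', g' ⁻¹ᵁ U) Γ(F', g' ⁻¹ᵁ U) :=
    IsScalarTower.of_algebraMap_smul fun _ _ => rfl
  obtain ⟨E, -⟩ := hh
  let eq1 : Γ(F', g' ⁻¹ᵁ U) ≃ₗ[Γ(Y', g ⁻¹ᵁ V)] Γ(Y', g ⁻¹ᵁ V) ⊗[Γ(Y, V)] Γ(F, U) :=
    E.restrictScalars Γ(Y', g ⁻¹ᵁ V) ≪≫ₗ
      Algebra.IsPushout.cancelBaseChange Γ(Y, V) Γ(Y', g ⁻¹ᵁ V) Γ(X, U) Γ(X', g' ⁻¹ᵁ U) Γ(F, U)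
  constructor
  · intro h
    have := FlatMor68.FlatSections.flat_sections f' (M := F') e hU' hV' (QC70.isLocAt_of_isQuasicoherent F' hU') h
    exact Module.Flat.of_linearEquiv eq1.symm
  · intro h x hx
    exact FlatMor68.FlatSections.flatAt_of_sections f' (M := F') e hU' hV' (QC70.isLocAt_of_isQuasicoherent F' hU')
      (Module.Flat.of_linearEquiv eq1) hx

end Groth.Agent.Stage62
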