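import Groth.Agent.Stage62.FlatChart
import Groth.Agent.Stage62.ModuleModel
import Groth.Agent.FlatStage64.Main
import Groth.Agent.LimTop61.BaseChange
import Groth.Agent.LimTop61.Diag
import Groth.Agent.LimDesc62.Basic
import Groth.Agent.Props58.LocFree.Affine
import Mathlib.AlgebraicGeometry.Morphisms.FinitePresentation

/-! Flatness of a module over a base descends to a stage of a limit with affine transition morphisms. -/

set_option autoImplicit false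
set_option backward.isDefEq.respectTransparency.types false
universe u

open CategoryTheory Limits AlgebraicGeometry TopologicalSpace Opposite TensorProduct

namespace Groth.Agent.Stage62

theorem flat_tensor_of_algHom {C : Type u} [CommRing C] {M : Type u} [AddCommGroup M] [Module C M]
    {A₁ A₂ : Type u} [CommRing A₁] [CommRing A₂] [Algebra C A₁] [Algebra C A₂] (φ : A₁ →ₐ[C] A₂)
    (h : Module.Flat A₁ (A₁ ⊗[C] M)) : Module.Flat A₂ (A₂ ⊗[C] M) := by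
  letI : Algebra A₁ A₂ := φ.toRingHom.toAlgebra
  haveI : IsScalarTower C A₁ A₂ := .of_algebraMap_eq fun c => (φ.commutes c).symm
  exact Module.Flat.of_linearEquiv (AlgebraTensorModule.cancelBaseChange C A₁ A₂ A₂ M).symm

theorem flat_tensor_of_stage {R C M M' : Type u} [CommRing R] [CommRing C] [Algebra R C] [AddCommGroup M]
    [Module C M] [AddCommGroup M'] [Module R M'] (e : (C ⊗[R] M') ≃ₗ[C] M) {Cs A' : Type u} [CommRing Cs]
    [Algebra R Cs] [CommRing A'] [Algebra R A'] [Algebra C A'] [IsScalarTower R C A'] (ψ : Cs →ₐ[R] A')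
    (h : Module.Flat Cs (Cs ⊗[R] M')) : Module.Flat A' (A' ⊗[C] M) := by
  letI : Algebra Cs A' := ψ.toRingHom.toAlgebra
  haveI : IsScalarTower R Cs A' := .of_algebraMap_eq fun c => (ψ.commutes c).symm
  have : Module.Flat A' (A' ⊗[R] M') :=
    Module.Flat.of_linearEquiv (AlgebraTensorModule.cancelBaseChange R Cs A' A' M').symm
  exact Module.Flat.of_linearEquiv ((AlgebraTensorModule.congr (LinearEquiv.refl A' A') e).symm ≪≫ₗ
    AlgebraTensorModule.cancelBaseChange R C A' A' M')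

/-- Flatness on a chart is preserved along a morphism of bases. -/
theorem flat_chart_map {Y₀ Y₁ Y₂ : Scheme.{u}} (p₁ : Y₁ ⟶ Y₀) (p₂ : Y₂ ⟶ Y₀) (w : Y₂ ⟶ Y₁) (hw : w ≫ p₁ = p₂)
    {V : Y₀.Opens} (M : Type u) [AddCommGroup M] [Module Γ(Y₀, V) M]
    (h : letI : Algebra Γ(Y₀, V) Γ(Y₁, p₁ ⁻¹ᵁ V) := (p₁.app V).hom.toAlgebra
      Module.Flat Γ(Y₁, p₁ ⁻¹ᵁ V) (Γ(Y₁, p₁ ⁻¹ᵁ V) ⊗[Γ(Y₀, V)] M)) :
    letI : Algebra Γ(Y₀, V) Γ(Y₂, p₂ ⁻¹ᵁ V) := (p₂.app V).hom.toAlgebra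
    Module.Flat Γ(Y₂, p₂ ⁻¹ᵁ V) (Γ(Y₂, p₂ ⁻¹ᵁ V) ⊗[Γ(Y₀, V)] M) := by
  subst hw
  letI : Algebra Γ(Y₀, V) Γ(Y₁, p₁ ⁻¹ᵁ V) := (p₁.app V).hom.toAlgebra
  letI : Algebra Γ(Y₀, V) Γ(Y₂, (w ≫ p₁) ⁻¹ᵁ V) := ((w ≫ p₁).app V).hom.toAlgebra
  exact flat_tensor_of_algHom (A₁ := Γ(Y₁, p₁ ⁻¹ᵁ V)) (A₂ := Γ(Y₂, (w ≫ p₁) ⁻¹ᵁ V))
    { (w.app (p₁ ⁻¹ᵁ V)).hom with commutes' := fun c => rfl } h

/-- A morphism to a flattening stage gives flatness on a chart. -/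
theorem flat_of_stage_hom {Y₀ Y' : Scheme.{u}} (p : Y' ⟶ Y₀) {V : Y₀.Opens} (W : Y'.Opens) (hW : p ⁻¹ᵁ V = W)
    [IsAffine (W : Scheme.{u})] {R : Type u} [CommRing R] [Algebra R Γ(Y₀, V)]
    {M M' : Type u} [AddCommGroup M] [Module Γ(Y₀, V) M] [AddCommGroup M'] [Module R M']
    (e : (Γ(Y₀, V) ⊗[R] M') ≃ₗ[Γ(Y₀, V)] M) {Cs : Type u} [CommRing Cs] [Algebra R Cs]
    (h : Module.Flat Cs (Cs ⊗[R] M')) (γ : (W : Scheme.{u}) ⟶ Spec (CommRingCat.of Cs))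
    (hγ : γ ≫ Spec.map (CommRingCat.ofHom (algebraMap R Cs)) =
      p.resLE V W hW.ge ≫ V.toSpecΓ ≫ Spec.map (CommRingCat.ofHom (algebraMap R Γ(Y₀, V)))) :
    letI : Algebra Γ(Y₀, V) Γ(Y', p ⁻¹ᵁ V) := (p.app V).hom.toAlgebra
    Module.Flat Γ(Y', p ⁻¹ᵁ V) (Γ(Y', p ⁻¹ᵁ V) ⊗[Γ(Y₀, V)] M) := by
  subst hW
  letI : Algebra Γ(Y₀, V) Γ(Y', p ⁻¹ᵁ V) := (p.app V).hom.toAlgebra
  haveI : IsIso (p ⁻¹ᵁ V).toSpecΓ := by unfold Scheme.Opens.toSpecΓ; infer_instance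
  obtain ⟨χ, hχ⟩ := Spec.map_surjective (inv (p ⁻¹ᵁ V).toSpecΓ ≫ γ)
  have hχR : CommRingCat.ofHom (algebraMap R Cs) ≫ χ = CommRingCat.ofHom (algebraMap R Γ(Y₀, V)) ≫ p.app V := by
    apply Spec.map_injective
    rw [Spec.map_comp, Spec.map_comp, hχ, Category.assoc, IsIso.inv_comp_eq, hγ, Scheme.Hom.resLE_eq_morphismRestrict,
      Scheme.Opens.toSpecΓ_naturality_assoc]
  letI : Algebra R Γ(Y', p ⁻¹ᵁ V) := (CommRingCat.ofHom (algebraMap R Γ(Y₀, V)) ≫ p.app V).hom.toAlgebra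
  haveI : IsScalarTower R Γ(Y₀, V) Γ(Y', p ⁻¹ᵁ V) := .of_algebraMap_eq' rfl
  let ψ : Cs →ₐ[R] Γ(Y', p ⁻¹ᵁ V) :=
    { χ.hom with commutes' := fun r => RingHom.congr_fun (congrArg CommRingCat.Hom.hom hχR) r }
  exact flat_tensor_of_stage e ψ h

/-- Flatness on a chart over the limit comes from a stage. -/
theorem exists_stage_chart {I : Type u} [SmallCategory I] [IsCofiltered I] (D : I ⥤ Scheme.{u}) (c : Cone D)
    (hc : IsLimit c) [∀ (i j : I) (φ : i ⟶ j), IsAffineHom (D.map φ)] (i₀ : I)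
    {Y₀ Y : Scheme.{u}} (g₀ : Y₀ ⟶ D.obj i₀) (qY : Y ⟶ Y₀) (g : Y ⟶ c.pt)
    (hY : IsPullback qY g g₀ (c.π.app i₀)) [IsAffineHom qY] {V : Y₀.Opens} (hV : IsAffineOpen V)
    (B : Type u) [CommRing B] [Algebra Γ(Y₀, V) B] [Algebra.FinitePresentation Γ(Y₀, V) B]
    (M : Type u) [AddCommGroup M] [Module B M] [Module Γ(Y₀, V) M] [IsScalarTower Γ(Y₀, V) B M]
    [Module.FinitePresentation B M]
    (h : letI : Algebra Γ(Y₀, V) Γ(Y, qY ⁻¹ᵁ V) := (qY.app V).hom.toAlgebra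
      Module.Flat Γ(Y, qY ⁻¹ᵁ V) (Γ(Y, qY ⁻¹ᵁ V) ⊗[Γ(Y₀, V)] M)) :
    ∃ (i : I) (φ : i ⟶ i₀),
      letI : Algebra Γ(Y₀, V) Γ(pullback g₀ (D.map φ), pullback.fst g₀ (D.map φ) ⁻¹ᵁ V) :=
        ((pullback.fst g₀ (D.map φ)).app V).hom.toAlgebra
      Module.Flat Γ(pullback g₀ (D.map φ), pullback.fst g₀ (D.map φ) ⁻¹ᵁ V)
        (Γ(pullback g₀ (D.map φ), pullback.fst g₀ (D.map φ) ⁻¹ᵁ V) ⊗[Γ(Y₀, V)] M) := by
  letI : Algebra Γ(Y₀, V) Γ(Y, qY ⁻¹ᵁ V) := (qY.app V).hom.toAlgebra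
  obtain ⟨R, B', _, _, M', _, _, _, _, e, hN, hfp, hfin⟩ := exists_module_model (A := Γ(Y₀, V)) (B := B) (M := M)
  have : Algebra.FiniteType R B' := inferInstance
  let A := Γ(Y, qY ⁻¹ᵁ V)
  have : Module.Flat A (A ⊗[R] M') := Module.Flat.of_linearEquiv
    ((AlgebraTensorModule.cancelBaseChange R Γ(Y₀, V) A A M').symm ≪≫ₗ
      AlgebraTensorModule.congr (LinearEquiv.refl A A) e)
  obtain ⟨Cs, hCs, hflat⟩ := FlatStage64.exists_fg_flat (R := R) (B := B') (M := M') (A := A) this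
  have : Algebra.FiniteType R Cs := (Subalgebra.fg_iff_finiteType Cs).mp hCs
  have : Algebra.FinitePresentation R Cs := Algebra.FinitePresentation.of_finiteType.mp inferInstance
  let V' : Scheme.{u} := V
  haveI : IsAffine V' := hV
  let a : V' ⟶ D.obj i₀ := V.ι ≫ g₀
  have hP : IsPullback (qY ∣_ V) ((qY ⁻¹ᵁ V).ι ≫ g) a (c.π.app i₀) :=
    (isPullback_morphismRestrict qY V).paste_vert hY
  let E := LimTop61.bcDiagram D a
  let ec := LimTop61.bcCone D c a (qY ∣_ V) ((qY ⁻¹ᵁ V).ι ≫ g) hP.w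
  have hec : IsLimit ec := LimTop61.isLimitBcCone D c hc a _ _ hP
  let φR : CommRingCat.of R ⟶ Γ(Y₀, V) := CommRingCat.ofHom (algebraMap R Γ(Y₀, V))
  let fR : Spec (CommRingCat.of Cs) ⟶ Spec (CommRingCat.of R) := Spec.map (CommRingCat.ofHom (algebraMap R Cs))
  haveI : LocallyOfFinitePresentation fR := by
    rw [HasRingHomProperty.Spec_iff (P := @LocallyOfFinitePresentation)]
    exact RingHom.finitePresentation_algebraMap.mpr inferInstance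
  let t : E ⟶ (Functor.const (Over i₀)).obj (Spec (CommRingCat.of R)) :=
    { app := fun k => pullback.fst a (D.map k.hom) ≫ V.toSpecΓ ≫ Spec.map φR
      naturality := fun k l m => by
        show pullback.lift _ _ _ ≫ pullback.fst a (D.map l.hom) ≫ _ = (_ ≫ _) ≫ 𝟙 _
        rw [pullback.lift_fst_assoc, Category.comp_id] }
  let pa : (qY ⁻¹ᵁ V : Scheme.{u}) ⟶ Spec (CommRingCat.of Cs) :=
    (qY ⁻¹ᵁ V).toSpecΓ ≫ Spec.map (CommRingCat.ofHom (Cs.val.toRingHom))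
  have hpa : ec.π ≫ t = (Functor.const (Over i₀)).map (pa ≫ fR) := by
    ext1
    ext1 k
    show pullback.lift (qY ∣_ V) _ _ ≫ pullback.fst a (D.map k.hom) ≫ _ = (_ ≫ _) ≫ fR
    rw [pullback.lift_fst_assoc, ← Scheme.Opens.toSpecΓ_naturality_assoc, Category.assoc, ← Spec.map_comp,
      ← Spec.map_comp]
    congr 2
  haveI : ∀ {k l : Over i₀} (m : k ⟶ l), IsAffineHom (E.map m) := fun m => LimTop61.isAffineHom_bcDiagram_map D a m
  haveI : ∀ k, CompactSpace (E.obj k) := fun k => LimTop61.bcDiagram_compactSpace D a k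
  haveI : ∀ k, QuasiSeparatedSpace (E.obj k) := fun k => LimTop61.bcDiagram_quasiSeparatedSpace D a k
  obtain ⟨k, γ, -, hγ⟩ := Scheme.exists_π_app_comp_eq_of_locallyOfFinitePresentation E t fR ec hec pa hpa
  refine ⟨k.left, k.hom, ?_⟩
  let pj := pullback.fst g₀ (D.map k.hom)
  haveI : IsAffineHom pj := MorphismProperty.pullback_fst (P := @IsAffineHom) g₀ (D.map k.hom) inferInstance
  haveI : IsAffine ((pj ⁻¹ᵁ V : (pullback g₀ (D.map k.hom)).Opens) : Scheme.{u}) := hV.preimage pj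
  let m : (pj ⁻¹ᵁ V : Scheme.{u}) ⟶ E.obj k :=
    pullback.lift (pj ∣_ V) ((pj ⁻¹ᵁ V).ι ≫ pullback.snd g₀ (D.map k.hom)) (by
      show (pj ∣_ V) ≫ V.ι ≫ g₀ = _
      rw [← Category.assoc, morphismRestrict_ι, Category.assoc, pullback.condition, Category.assoc])
  refine flat_of_stage_hom pj (pj ⁻¹ᵁ V) rfl { e.toAddEquiv with map_smul' := fun x y => e.map_smul x y }
    (hflat Cs le_rfl) (m ≫ γ) ?_
  rw [Category.assoc, hγ, Scheme.Hom.resLE_eq_morphismRestrict]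
  show pullback.lift (pj ∣_ V) _ _ ≫ pullback.fst a (D.map k.hom) ≫ V.toSpecΓ ≫ Spec.map φR = _
  rw [pullback.lift_fst_assoc]

set_option maxHeartbeats 800000 in
/-- Flatness descends to a stage. -/
theorem isFlatOver_iff_exists_stage {I : Type u} [SmallCategory I] [IsCofiltered I]
    (D : I ⥤ Scheme.{u}) (c : Cone D) (hc : IsLimit c)
    [∀ (i j : I) (φ : i ⟶ j), IsAffineHom (D.map φ)] (i₀ : I) [CompactSpace (D.obj i₀)]
    {X₀ Y₀ : Scheme.{u}} (f₀ : X₀ ⟶ Y₀) (g₀ : Y₀ ⟶ D.obj i₀)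
    [LocallyOfFiniteType g₀] [LocallyOfFinitePresentation (f₀ ≫ g₀)] [QuasiCompact (f₀ ≫ g₀)]
    (F₀ : X₀.Modules) [F₀.IsQuasicoherent] [CohB1.IsFP F₀]
    {X Y : Scheme.{u}} (f : X ⟶ Y) (g : Y ⟶ c.pt) (qY : Y ⟶ Y₀) (qX : X ⟶ X₀)
    (hY : IsPullback qY g g₀ (c.π.app i₀)) (hX : IsPullback qX f f₀ qY) :
    FlatMod.IsFlatOver f ((Scheme.Modules.pullback qX).obj F₀) ↔
      ∃ (i : I) (φ : i ⟶ i₀) (Xi Yi : Scheme.{u}) (fi : Xi ⟶ Yi) (gi : Yi ⟶ D.obj i)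
        (pY : Yi ⟶ Y₀) (pX : Xi ⟶ X₀),
        IsPullback pY gi g₀ (D.map φ) ∧ IsPullback pX fi f₀ pY ∧
          FlatMod.IsFlatOver fi ((Scheme.Modules.pullback pX).obj F₀) := by
  classical
  haveI : LocallyOfFinitePresentation f₀ := LimTop61.locallyOfFinitePresentation_of_comp f₀ g₀
  haveI : IsAffineHom (c.π.app i₀) := isAffineHom_π_app D c hc i₀
  haveI : IsAffineHom qY := MorphismProperty.of_isPullback hY.flip ‹IsAffineHom (c.π.app i₀)›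
  haveI : CompactSpace X₀ := QuasiCompact.compactSpace_of_compactSpace (f₀ ≫ g₀)
  have hchart : ∀ x : X₀, ∃ (V : Y₀.Opens) (U : X₀.Opens), IsAffineOpen V ∧ IsAffineOpen U ∧ x ∈ U ∧ U ≤ f₀ ⁻¹ᵁ V := by
    intro x
    obtain ⟨V, hV, hxV, -⟩ := exists_isAffineOpen_mem_and_subset (X := Y₀) (x := f₀ x) (U := ⊤) trivial
    obtain ⟨U, hU, hxU, hle⟩ := exists_isAffineOpen_mem_and_subset (X := X₀) (x := x) (U := f₀ ⁻¹ᵁ V) hxV
    exact ⟨V, U, hV, hU, hxU, hle⟩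
  choose V U hV hU hxU hle using hchart
  obtain ⟨s, hs⟩ := isCompact_univ.elim_finite_subcover (fun x => (U x : Set X₀)) (fun x => (U x).2)
    (fun x _ => Set.mem_iUnion.mpr ⟨x, hxU x⟩)
  constructor
  · intro hflat
    have hj : ∀ x : s, ∃ (i : I) (φ : i ⟶ i₀),
        letI : Algebra Γ(Y₀, V x) Γ(pullback g₀ (D.map φ), pullback.fst g₀ (D.map φ) ⁻¹ᵁ V x) :=
          ((pullback.fst g₀ (D.map φ)).app (V x)).hom.toAlgebra
        letI : Module Γ(Y₀, V x) Γ(F₀, U x) := Module.compHom _ (f₀.appLE (V x) (U x) (hle x)).hom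
        Module.Flat Γ(pullback g₀ (D.map φ), pullback.fst g₀ (D.map φ) ⁻¹ᵁ V x)
          (Γ(pullback g₀ (D.map φ), pullback.fst g₀ (D.map φ) ⁻¹ᵁ V x) ⊗[Γ(Y₀, V x)] Γ(F₀, U x)) := by
      intro x
      letI : Algebra Γ(Y₀, V x) Γ(X₀, U x) := (f₀.appLE (V x) (U x) (hle x)).hom.toAlgebra
      letI : Module Γ(Y₀, V x) Γ(F₀, U x) := Module.compHom _ (f₀.appLE (V x) (U x) (hle x)).hom
      haveI : IsScalarTower Γ(Y₀, V x) Γ(X₀, U x) Γ(F₀, U x) := IsScalarTower.of_algebraMap_smul fun _ _ => rfl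
      haveI : Algebra.FinitePresentation Γ(Y₀, V x) Γ(X₀, U x) := f₀.finitePresentation_appLE (hV x) (hU x) (hle x)
      haveI := Props58.LocFree.finitePresentation_sections F₀ (hU x)
      exact exists_stage_chart D c hc i₀ g₀ qY g hY (hV x) Γ(X₀, U x) Γ(F₀, U x)
        ((flatOn_chart_iff hX F₀ (hV x) (hU x) (hle x)).mp fun x' _ => hflat x')
    choose i φ hφ using hj
    obtain ⟨m, ψ, χ, hχ⟩ := LimDesc62.DescProp.exists_common φ
    haveI : IsAffineHom (pullback.fst g₀ (D.map ψ)) :=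
      MorphismProperty.pullback_fst (P := @IsAffineHom) g₀ (D.map ψ) inferInstance
    refine ⟨m, ψ, pullback f₀ (pullback.fst g₀ (D.map ψ)), pullback g₀ (D.map ψ), pullback.snd _ _,
      pullback.snd g₀ (D.map ψ), pullback.fst g₀ (D.map ψ), pullback.fst _ _, IsPullback.of_hasPullback _ _,
      IsPullback.of_hasPullback _ _, fun x' => ?_⟩
    obtain ⟨x, hx, hx'⟩ := Set.mem_iUnion₂.mp (hs (Set.mem_univ (pullback.fst f₀ (pullback.fst g₀ (D.map ψ)) x')))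
    letI : Module Γ(Y₀, V x) Γ(F₀, U x) := Module.compHom _ (f₀.appLE (V x) (U x) (hle x)).hom
    refine (flatOn_chart_iff (IsPullback.of_hasPullback f₀ (pullback.fst g₀ (D.map ψ))) F₀ (hV x) (hU x) (hle x)).mpr
      ?_ x' hx'
    refine flat_chart_map (pullback.fst g₀ (D.map (φ ⟨x, hx⟩))) _
      (pullback.lift (pullback.fst g₀ (D.map ψ)) (pullback.snd g₀ (D.map ψ) ≫ D.map (χ ⟨x, hx⟩)) ?_)
      (pullback.lift_fst _ _ _) Γ(F₀, U x) (hφ ⟨x, hx⟩)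
    rw [pullback.condition, Category.assoc, ← D.map_comp, hχ]
  · rintro ⟨i, φ, Xi, Yi, fi, gi, pY, pX, hYi, hXi, hflat⟩ x'
    haveI : IsAffineHom pY := MorphismProperty.of_isPullback hYi.flip (inferInstance : IsAffineHom (D.map φ))
    obtain ⟨x, hx, hx'⟩ := Set.mem_iUnion₂.mp (hs (Set.mem_univ (qX x')))
    letI : Module Γ(Y₀, V x) Γ(F₀, U x) := Module.compHom _ (f₀.appLE (V x) (U x) (hle x)).hom
    refine (flatOn_chart_iff hX F₀ (hV x) (hU x) (hle x)).mpr ?_ x' hx'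
    refine flat_chart_map pY qY (hYi.lift qY (g ≫ c.π.app i) ?_) (hYi.lift_fst _ _ _) Γ(F₀, U x) ?_
    · rw [hY.w, Category.assoc, c.w φ]
    · exact (flatOn_chart_iff hXi F₀ (hV x) (hU x) (hle x)).mp fun z _ => hflat z

end Groth.Agent.Stage62
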