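import Groth.Agent.Stage62.ModuleModel
import Groth.Agent.FlatStage64.Main
import Groth.Prelude.Def_FlatCA
import Mathlib.RingTheory.FinitePresentation

/-! Flatness over a directed colimit of rings comes from some stage. -/

set_option autoImplicit false
universe u

open TensorProduct

namespace Groth.Agent.Stage62

/-- An algebra homomorphism from a finitely presented algebra to a directed colimit factors through a stage. -/
theorem exists_algHom_stage {R : Type u} [CommRing R] {ι : Type u} [Preorder ι] (G : ι → Type u)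
    [∀ i, CommRing (G i)] [∀ i, Algebra R (G i)] (g : ∀ i j, i ≤ j → G i →ₐ[R] G j)
    (A : Type u) [CommRing A] [Algebra R A] [∀ i, Algebra (G i) A] [∀ i, IsScalarTower R (G i) A]
    (hcolim : FlatCA.IsDirectedColimitRing G (fun i j h => (g i j h).toRingHom) A)
    {C : Type u} [CommRing C] [Algebra R C] [Algebra.FinitePresentation R C] (χ : C →ₐ[R] A) :
    ∃ (i : ι) (ψ : C →ₐ[R] G i), (IsScalarTower.toAlgHom R (G i) A).comp ψ = χ := by
  classical
  obtain ⟨hdir, hne, -, hcomp, hcompat, hsurj, hzero⟩ := hcolim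
  obtain ⟨n, π, hπ, w, hw⟩ := (inferInstance : Algebra.FinitePresentation R C).out
  choose iF xF hxF using fun k => hsurj (χ (π (MvPolynomial.X k)))
  obtain ⟨i₀, hi₀⟩ := Finset.exists_le (Finset.univ.image iF)
  let Θ : MvPolynomial (Fin n) R →ₐ[R] G i₀ :=
    MvPolynomial.aeval fun k => g (iF k) i₀ (hi₀ _ (Finset.mem_image_of_mem _ (Finset.mem_univ k))) (xF k)
  have hΘ : (IsScalarTower.toAlgHom R (G i₀) A).comp Θ = χ.comp π := by
    refine MvPolynomial.algHom_ext fun k => ?_
    simp only [Θ, AlgHom.comp_apply, MvPolynomial.aeval_X, IsScalarTower.toAlgHom_apply]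
    have h := RingHom.congr_fun (hcompat (iF k) i₀ (hi₀ _ (Finset.mem_image_of_mem _ (Finset.mem_univ k)))) (xF k)
    exact h.trans (hxF k)
  have hw0 : ∀ r ∈ w, algebraMap (G i₀) A (Θ r) = 0 := fun r hr => by
    have hr0 : π r = 0 := RingHom.mem_ker.mp (hw.le (Ideal.subset_span hr) : _)
    have h := AlgHom.congr_fun hΘ r
    simp only [AlgHom.comp_apply, IsScalarTower.toAlgHom_apply, hr0, map_zero] at h
    exact h
  choose! jF hjF hjF0 using fun r hr => hzero i₀ (Θ r) (hw0 r hr)
  obtain ⟨j, hj⟩ := Finset.exists_le (insert i₀ (w.image jF))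
  have hij : i₀ ≤ j := hj _ (Finset.mem_insert_self _ _)
  have hker : RingHom.ker π.toRingHom ≤ RingHom.ker ((g i₀ j hij).comp Θ).toRingHom := by
    rw [← hw, Ideal.span_le]
    intro r hr
    have hrj : jF r ≤ j := hj _ (Finset.mem_insert_of_mem (Finset.mem_image_of_mem _ hr))
    show g i₀ j hij (Θ r) = 0
    have h := RingHom.congr_fun (hcomp i₀ (jF r) j (hjF r hr) hrj) (Θ r)
    have h0 : g i₀ (jF r) (hjF r hr) (Θ r) = 0 := hjF0 r hr
    refine (h.symm.trans ?_)
    show g (jF r) j hrj (g i₀ (jF r) (hjF r hr) (Θ r)) = 0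
    rw [h0, map_zero]
  refine ⟨j, AlgHom.liftOfSurjective π hπ ((g i₀ j hij).comp Θ) hker, ?_⟩
  refine AlgHom.ext fun c => ?_
  obtain ⟨p, rfl⟩ := hπ c
  simp only [AlgHom.comp_apply, AlgHom.liftOfSurjective_apply, IsScalarTower.toAlgHom_apply]
  have h := RingHom.congr_fun (hcompat i₀ j hij) (Θ p)
  exact h.trans (AlgHom.congr_fun hΘ p)

theorem flat_colimit_iff {A₀ : Type u} [CommRing A₀]
    {ι : Type u} [Preorder ι] (G : ι → Type u) [∀ i, CommRing (G i)] [∀ i, Algebra A₀ (G i)]
    (g : ∀ i j, i ≤ j → G i →ₐ[A₀] G j)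
    (A : Type u) [CommRing A] [Algebra A₀ A] [∀ i, Algebra (G i) A] [∀ i, IsScalarTower A₀ (G i) A]
    (hcolim : FlatCA.IsDirectedColimitRing G (fun i j h => (g i j h).toRingHom) A)
    {B₀ : Type u} [CommRing B₀] [Algebra A₀ B₀] [Algebra.FinitePresentation A₀ B₀]
    (M₀ : Type u) [AddCommGroup M₀] [Module B₀ M₀] [Module A₀ M₀] [IsScalarTower A₀ B₀ M₀]
    [Module.FinitePresentation B₀ M₀] :
    Module.Flat A (A ⊗[A₀] M₀) ↔ ∃ i : ι, Module.Flat (G i) (G i ⊗[A₀] M₀) := by
  constructor
  · intro hA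
    obtain ⟨R, B', _, _, M', _, _, _, _, e, hN, hfp, hfin⟩ :=
      exists_module_model (A := A₀) (B := B₀) (M := M₀)
    have : Algebra.FiniteType R B' := inferInstance
    have : Module.Flat A (A ⊗[R] M') := Module.Flat.of_linearEquiv
      ((AlgebraTensorModule.cancelBaseChange R A₀ A A M').symm ≪≫ₗ
        AlgebraTensorModule.congr (LinearEquiv.refl A A) e)
    obtain ⟨C, hC, hflat⟩ := FlatStage64.exists_fg_flat (R := R) (B := B') (M := M') (A := A) this
    have : Algebra.FiniteType R C := (Subalgebra.fg_iff_finiteType C).mp hC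
    have : Algebra.FinitePresentation R C := Algebra.FinitePresentation.of_finiteType.mp inferInstance
    have : ∀ i, IsScalarTower R (G i) A := fun i => .of_algebraMap_eq fun r => by
      rw [IsScalarTower.algebraMap_apply R A₀ A, IsScalarTower.algebraMap_apply R A₀ (G i)]
      exact IsScalarTower.algebraMap_apply A₀ (G i) A _
    obtain ⟨i, ψ, -⟩ := exists_algHom_stage G (fun i j h => (g i j h).restrictScalars R) A
      hcolim C.val
    refine ⟨i, ?_⟩
    letI : Algebra C (G i) := ψ.toRingHom.toAlgebra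
    have : IsScalarTower R C (G i) := .of_algebraMap_eq fun r => (ψ.commutes r).symm
    have : Module.Flat C (C ⊗[R] M') := hflat C le_rfl
    have : Module.Flat (G i) (G i ⊗[R] M') :=
      Module.Flat.of_linearEquiv (AlgebraTensorModule.cancelBaseChange R C (G i) (G i) M').symm
    exact Module.Flat.of_linearEquiv ((AlgebraTensorModule.congr (LinearEquiv.refl (G i) (G i)) e).symm ≪≫ₗ
      AlgebraTensorModule.cancelBaseChange R A₀ (G i) (G i) M')
  · rintro ⟨i, hi⟩
    exact Module.Flat.of_linearEquiv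
      (AlgebraTensorModule.cancelBaseChange A₀ (G i) A A M₀).symm

end Groth.Agent.Stage62
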